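import Cfsg.Agent.S4710
import Cfsg.Agent.S4888
import Cfsg.Agent.H702.BR.Final
import Cfsg.Agent.H629.CY.Core

/-!
# S4829, the row `(Fi23; 5)` (helper186)

`witR_of_rowQ_sq` : if `|S|_p = p²` then every character of the principal `p`-block has degree prime to `p` (S4710: the
heights are at most `d - 2 = 0`), so a rational witness without a condition on the degree (`RowQ`) is enough.
-/

set_option autoImplicit false

namespace Cfsg.Agent.H186.CY

open Cfsg Cfsg.Agent.H145.BR Cfsg.Agent.H493.RatB Cfsg.Agent.H629.CY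
open Cfsg.Agent.Blocks Cfsg.Agent.Blocks.Basic

universe u

/-- `|G|_p = p²` : the degrees in the principal block are prime to `p` -/
theorem not_dvd_of_sq {G : Type u} [Group G] [Finite G] {p : ℕ} [hp : Fact p.Prime] (h2 : (Nat.card G).factorization p = 2)
    {M : Ideal AlgInt} (hM : IsPModular p M) {χ : IrrCharacter G} (hχ : χ ∈ principalBlock M G) :
    ¬ p ∣ charDegree (χ : G → ℂ) := by
  have hd : blockDefect p (principalBlock M G) = 2 := by rw [S4888.blockDefect_principal p hM, h2]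
  have h := ((S4710.result p M hM (principalBlock M G) PrincipalSection.isPBlock_principalBlock 2 hd).2 χ hχ).2 le_rfl
  rw [S4888.blockHeight_principal p hM, Nat.sub_self, Nat.le_zero] at h
  have h0 : 0 < charDegree (χ : G → ℂ) := charDegree_pos χ.2
  exact (S4888.factorization_eq_zero_iff' hp.out h0).1 h

/-- `RowQ` implies `WitR` if `|S|_p = p²` -/
theorem witR_of_rowQ_sq {S : Type u} [Group S] [Finite S] {p : ℕ} [Fact p.Prime] (h2 : (Nat.card S).factorization p = 2)
    (h : RowQ p S) : WitR p S := by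
  intro M hM
  obtain ⟨θ, h1, h3, h4⟩ := h M hM
  exact ⟨θ, h1, h3, not_dvd_of_sq h2 hM h1, h4⟩

/-- **`(Fi23; 5)`** -/
theorem witC_fi23_five {S : Type u} [Group S] (h : Spor.IsoFi23 S) : WitC 5 S := by
  have hc : Nat.card S = 2 ^ 18 * 3 ^ 13 * 5 ^ 2 * 7 * 11 * 13 * 17 * 23 := by
    obtain ⟨e⟩ := h
    rw [Nat.card_congr e.toEquiv]
    exact H702.BR.FiTT.card_eq
  have hfin : Finite S := Nat.finite_of_card_ne_zero (by rw [hc]; norm_num)
  have h5 : Fact (Nat.Prime 5) := ⟨by norm_num⟩
  refine witC_of_witR (witR_of_rowQ_sq ?_ (H702.BR.rowQ_fi23_five h))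
  rw [hc, show 2 ^ 18 * 3 ^ 13 * 5 ^ 2 * 7 * 11 * 13 * 17 * 23 = 5 ^ 2 * (2 ^ 18 * 3 ^ 13 * 7 * 11 * 13 * 17 * 23) by norm_num,
    Nat.factorization_mul (by norm_num) (by norm_num), Nat.Prime.factorization_pow (by norm_num)]
  rw [Finsupp.add_apply, Finsupp.single_eq_same, Nat.factorization_eq_zero_of_not_dvd (by norm_num)]

end Cfsg.Agent.H186.CY
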